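import Cfsg.Agent.H991.KGV.NT1

/-!
# Team KGV, NT5: the nonsplit Hasse–Davenport formula for `2`, up to sign (helper99)
-/

set_option autoImplicit false
set_option linter.unusedSectionVars false

namespace Cfsg.Agent.H99.KGV

open Cfsg.Agent.H644.KGV Cfsg.Agent.H991.KGV

section

/-- uniqueness of the quadratic character -/
theorem quad_unique {L : Type*} [Field L] [Finite L] {χ χ' : MulChar L ℂ} (h1 : χ ≠ 1) (h2 : χ ^ 2 = 1)
    (h1' : χ' ≠ 1) (h2' : χ' ^ 2 = 1) : χ = χ' := by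
  obtain ⟨g, hg⟩ := IsCyclic.exists_generator (α := Lˣ)
  have key : ∀ {χ : MulChar L ℂ}, χ ≠ 1 → χ ^ 2 = 1 → χ (g : L) = -1 := by
    intro χ h1 h2
    have h3 : χ (g : L) ≠ 1 := by
      intro h
      apply h1
      rw [MulChar.eq_iff hg, h, MulChar.one_apply_coe]
    have h4 : χ (g : L) ^ 2 = 1 := by
      rw [← MulChar.pow_apply_coe, h2, MulChar.one_apply_coe]
    exact (mul_self_eq_one_iff.1 (by rwa [← sq])).resolve_left h3
  rw [MulChar.eq_iff hg, key h1 h2, key h1' h2']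

variable {K L : Type} [Field K] [Fintype K] [Field L] [Fintype L] [Algebra K L]

theorem mulNorm_pow (χ : MulChar K ℂ) (n : ℕ) : mulNorm (L := L) (χ ^ n) = mulNorm χ ^ n := by
  ext u
  rw [mulNorm_apply, MulChar.pow_apply_coe, mulNorm_apply]
  have h : IsUnit (Algebra.norm K (u : L)) := u.isUnit.map _
  obtain ⟨v, hv⟩ := h
  rw [← hv, MulChar.pow_apply_coe]

theorem mulNorm_one : mulNorm (L := L) (1 : MulChar K ℂ) = 1 := by
  have := mulNorm_pow (L := L) (1 : MulChar K ℂ) 0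
  rwa [pow_zero, pow_zero] at this

theorem mulNorm_injective : Function.Injective (mulNorm (K := K) (L := L)) := by
  intro χ χ' h
  ext u
  obtain ⟨v, hv⟩ := FiniteField.unitsMap_norm_surjective K L u
  have h1 := congrArg (fun X : MulChar L ℂ => X (v : L)) h
  simp only [mulNorm_apply] at h1
  have h2 : (u : K) = Algebra.norm K (v : L) := by rw [← hv]; rfl
  rw [h2, h1]

theorem addTrace_ne_one {ψ : AddChar K ℂ} (hψ : ψ ≠ 1) : addTrace L ψ ≠ 1 := by
  intro h
  apply hψ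
  ext x
  obtain ⟨y, hy⟩ := Algebra.trace_surjective K L x
  have h1 := congrArg (fun X : AddChar L ℂ => X y) h
  simp only [addTrace_apply] at h1
  rw [hy] at h1
  exact h1

theorem addTrace_mulShift (ψ : AddChar K ℂ) (n : ℕ) :
    addTrace L (ψ.mulShift (n : K)) = (addTrace L ψ).mulShift (n : L) := by
  ext x
  rw [addTrace_apply, AddChar.mulShift_apply, AddChar.mulShift_apply, addTrace_apply]
  congr 1
  rw [← nsmul_eq_mul, ← nsmul_eq_mul, map_nsmul]

/-- the Gauss sum is invariant under the Frobenius map -/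
theorem gaussSum_frob (X : MulChar L ℂ) (ψ : AddChar K ℂ) :
    gaussSum (X ^ Fintype.card K) (addTrace L ψ) = gaussSum X (addTrace L ψ) := by
  let σ : L ≃ₐ[K] L := FiniteField.frobeniusAlgEquivOfAlgebraic K L
  have hσ : ∀ y, σ y = y ^ Fintype.card K := fun y => by
    simp [σ]
  unfold gaussSum
  rw [← σ.toEquiv.sum_comp (fun y => X y * addTrace L ψ y)]
  refine Finset.sum_congr rfl fun y _ => ?_
  show _ = X (σ y) * addTrace L ψ (σ y)
  have h1 : Algebra.trace K L (σ y) = Algebra.trace K L y := Algebra.trace_eq_of_algEquiv σ y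
  rw [addTrace_apply, addTrace_apply, h1, hσ, map_pow, MulChar.pow_apply' _ Fintype.card_ne_zero]

/-- `X ^ (q - 1)` is the quadratic character. -/
theorem pow_eq_quad {X : MulChar L ℂ} {Y η : MulChar K ℂ} (hη : η ≠ 1) (hη2 : η ^ 2 = 1) (hXY : X ^ 2 = mulNorm Y)
    (hX : X ^ (Fintype.card K - 1) ≠ 1) : X ^ (Fintype.card K - 1) = mulNorm η := by
  refine quad_unique hX ?_ ?_ ?_
  · rw [← pow_mul, mul_comm, pow_mul, hXY, ← mulNorm_pow]
    have : Y ^ (Fintype.card K - 1) = 1 := by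
      ext u
      rw [MulChar.pow_apply_coe, ← map_pow, ← Units.val_pow_eq_pow_val]
      have : u ^ (Fintype.card K - 1) = 1 := by
        have := pow_card_eq_one' (G := Kˣ) (x := u)
        rwa [Nat.card_units, Nat.card_eq_fintype_card] at this
      rw [this, Units.val_one, map_one, MulChar.one_apply_coe]
    rw [this, mulNorm_one]
  · intro h
    apply hη
    apply mulNorm_injective (L := L)
    rw [h, mulNorm_one]
  · rw [← mulNorm_pow, hη2, mulNorm_one]

/-- The identity up to sign. -/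
theorem sq_eq (h1 : HDLift) (h2 : HDTwo) {X : MulChar L ℂ} {Y η : MulChar K ℂ} {ψ : AddChar K ℂ} (hψ : ψ ≠ 1)
    (hc : ringChar K ≠ 2) (hη : η ≠ 1) (hη2 : η ^ 2 = 1) (hf : Module.finrank K L = 2) (hXY : X ^ 2 = mulNorm Y)
    (hX : X ^ (Fintype.card K - 1) ≠ 1) :
    gaussSum X (addTrace L ψ) ^ 2 = (gaussSum Y (ψ.mulShift 2) * gaussSum η ψ) ^ 2 := by
  have hq : 1 ≤ Fintype.card K := Fintype.card_pos
  have hXq : X * mulNorm η = X ^ Fintype.card K := by
    rw [← pow_eq_quad hη hη2 hXY hX, ← pow_succ', Nat.sub_add_cancel hq]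
  have hc' : ringChar L ≠ 2 := by
    rwa [← Algebra.ringChar_eq K L]
  have hη' : mulNorm (L := L) η ≠ 1 := by
    intro h
    apply hη
    apply mulNorm_injective (L := L)
    rw [h, mulNorm_one]
  have hη2' : mulNorm (L := L) η ^ 2 = 1 := by rw [← mulNorm_pow, hη2, mulNorm_one]
  have h3 := h2 L X (mulNorm η) (addTrace L ψ) (addTrace_ne_one hψ) hc' hη' hη2'
  rw [hXq, gaussSum_frob, hXY] at h3
  have h4 : (addTrace L ψ).mulShift (2 : L) = addTrace L (ψ.mulShift (2 : K)) := by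
    have := addTrace_mulShift (L := L) ψ 2
    rw [Nat.cast_ofNat, Nat.cast_ofNat] at this
    exact this.symm
  have h2K : (2 : K) ≠ 0 := Ring.two_ne_zero hc
  have h5 : ψ.mulShift (2 : K) ≠ 1 := by
    intro h
    apply hψ
    ext x
    have := congrArg (fun χ : AddChar K ℂ => χ (2⁻¹ * x)) h
    simp only [AddChar.mulShift_apply] at this
    rwa [mul_inv_cancel_left₀ h2K] at this
  have h6 := h1 K L Y (ψ.mulShift 2) h5
  have h7 := h1 K L η ψ hψ
  rw [hf] at h6 h7
  rw [h4] at h3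
  rw [sq, h3]
  linear_combination (-(gaussSum (mulNorm η) (addTrace L ψ))) * h6 + gaussSum Y (ψ.mulShift 2) ^ 2 * h7

/-- The assembly: the sign is the statement `sign`. -/
theorem hdTwoNS_of (h1 : HDLift) (h2 : HDTwo)
    (sign : ∀ (K L : Type) [Field K] [Fintype K] [Field L] [Fintype L] [Algebra K L] (X : MulChar L ℂ)
      (Y η : MulChar K ℂ) (ψ : AddChar K ℂ), ψ ≠ 1 → ringChar K ≠ 2 → η ≠ 1 → η ^ 2 = 1 →
      Module.finrank K L = 2 → X ^ 2 = mulNorm Y → X ^ (Fintype.card K - 1) ≠ 1 →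
      gaussSum X (addTrace L ψ) ≠ gaussSum Y (ψ.mulShift 2) * gaussSum η ψ) : HDTwoNS := by
  intro K L _ _ _ _ _ X Y η ψ hψ hc hη hη2 hf hXY hX
  rcases sq_eq_sq_iff_eq_or_eq_neg.1 (sq_eq h1 h2 hψ hc hη hη2 hf hXY hX) with h | h
  · exact absurd h (sign K L X Y η ψ hψ hc hη hη2 hf hXY hX)
  · rw [h, neg_neg]

end

end Cfsg.Agent.H99.KGV
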