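import Cfsg.Agent.H99.KGV.NT5a
import Cfsg.Agent.H32.KGV.Sign

/-!
# Team KGV, NT5 (helper99, helper32)
-/

set_option autoImplicit false

namespace Cfsg.Agent.H99.KGV

open Cfsg.Agent.H644.KGV

/-- **NT5**: the nonsplit Hasse–Davenport formula for `2`. -/
theorem hdTwoNS (h1 : HDLift) (h2 : HDTwo) : HDTwoNS :=
  hdTwoNS_of h1 h2 fun K L _ _ _ _ _ X Y η ψ hψ hc hη hη2 hf hXY hX =>
    Cfsg.Agent.H32.KGV.sign K L X Y η ψ hψ hc hη hη2 hf hXY hX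

end Cfsg.Agent.H99.KGV
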