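import Mathlib

/-!
# Team KGV, NT5: the parity count (helper99)

`K` a finite field of odd characteristic, `k` a ring of characteristic 2.
-/

set_option autoImplicit false
set_option linter.unusedSectionVars false

namespace Cfsg.Agent.H99.KGV

section

variable {K k : Type*} [Field K] [Fintype K] [DecidableEq K] [CommRing k] [CharP k 2] (h2 : ringChar K ≠ 2)
  (e : AddChar K k) (c : MulChar K k)

include h2 in
theorem two_ne : (2 : K) ≠ 0 := Ring.two_ne_zero h2

include h2 in
theorem isSquare_mul_of_not {a b : K} (ha : ¬ IsSquare a) (hb : ¬ IsSquare b) : IsSquare (a * b) := by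
  have h1 := quadraticChar_neg_one_iff_not_isSquare.2 ha
  have h3 := quadraticChar_neg_one_iff_not_isSquare.2 hb
  have h4 : quadraticChar K (a * b) = 1 := by rw [map_mul, h1, h3]; norm_num
  have h5 : a * b ≠ 0 := by
    intro h
    rw [h, quadraticChar_zero] at h4
    exact zero_ne_one h4
  exact (quadraticChar_one_iff_isSquare h5).1 h4

include h2 in
theorem not_isSquare_mul {a b : K} (ha0 : a ≠ 0) (ha : IsSquare a) (hb : ¬ IsSquare b) : ¬ IsSquare (a * b) := by
  rintro ⟨z, hz⟩
  obtain ⟨w, rfl⟩ := ha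
  apply hb
  have hw : w ≠ 0 := fun h => ha0 (by rw [h, mul_zero])
  exact ⟨z / w, by field_simp; linear_combination hz⟩

include h2 in
/-- the third sum -/
theorem third_eq : (∑ p : K × K with (p.2 ≠ 0 ∧ IsSquare p.2) ∧ ¬ IsSquare (p.1 ^ 2 - 4 * p.2), e p.1 * c p.2) =
    ∑ s : K with s ≠ 0 ∧ IsSquare s, ∑ v : K with ¬ IsSquare v, e ((s + v) / 2) * c ((v - s) / 4) ^ 2 := by
  have h20 := two_ne h2
  have h40 : (4 : K) ≠ 0 := by
    have : (4 : K) = 2 * 2 := by norm_num
    rw [this]; exact mul_ne_zero h20 h20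
  have h160 : (16 : K) ≠ 0 := by
    have : (16 : K) = 4 * 4 := by norm_num
    rw [this]; exact mul_ne_zero h40 h40
  rw [← Finset.sum_product']
  symm
  refine Finset.sum_bij (fun p _ => ((p.1 + p.2) / 2, ((p.2 - p.1) / 4) ^ 2)) ?_ ?_ ?_ ?_
  · rintro ⟨s, v⟩ h
    simp only [Finset.mem_product, Finset.mem_filter, Finset.mem_univ, true_and] at h ⊢
    obtain ⟨⟨hs0, hs⟩, hv⟩ := h
    refine ⟨⟨?_, ⟨(v - s) / 4, sq _⟩⟩, ?_⟩
    · refine pow_ne_zero 2 (div_ne_zero (sub_ne_zero.2 ?_) h40)
      rintro rfl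
      exact hv hs
    · have e1 : ((s + v) / 2) ^ 2 - 4 * ((v - s) / 4) ^ 2 = s * v := by
        field_simp
        ring
      rw [e1]
      exact not_isSquare_mul h2 hs0 hs hv
  · rintro ⟨s, v⟩ h ⟨s', v'⟩ h' heq
    simp only [Finset.mem_product, Finset.mem_filter, Finset.mem_univ, true_and] at h h'
    simp only [Prod.mk.injEq] at heq
    obtain ⟨⟨hs0, hs⟩, hv⟩ := h
    obtain ⟨⟨hs0', hs'⟩, hv'⟩ := h'
    obtain ⟨e1, e2⟩ := heq
    have e3 : s + v = s' + v' := by
      field_simp at e1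
      exact e1
    rcases sq_eq_sq_iff_eq_or_eq_neg.1 e2 with e4 | e4
    · have e5 : v - s = v' - s' := by field_simp at e4; exact e4
      have e6 : 2 * v = 2 * v' := by linear_combination e3 + e5
      have e7 := mul_left_cancel₀ h20 e6
      rw [e7] at e3
      rw [e7, add_right_cancel e3]
    · exfalso
      have e5 : v - s = -(v' - s') := by
        have e5 : v - s = 4 * ((v - s) / 4) := by field_simp
        rw [e5, e4]
        field_simp
      have e6 : 2 * v = 2 * s' := by linear_combination e3 + e5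
      have e7 := mul_left_cancel₀ h20 e6
      exact hv (e7 ▸ hs')
  · rintro ⟨t, n⟩ h
    simp only [Finset.mem_filter, Finset.mem_univ, true_and] at h
    obtain ⟨⟨hn0, m, rfl⟩, hd⟩ := h
    have hfac : t ^ 2 - 4 * (m * m) = (t - 2 * m) * (t + 2 * m) := by ring
    rw [hfac] at hd
    have hu0 : t - 2 * m ≠ 0 := fun h => hd (by rw [h, zero_mul]; exact IsSquare.zero)
    have hv0 : t + 2 * m ≠ 0 := fun h => hd (by rw [h, mul_zero]; exact IsSquare.zero)
    by_cases hu : IsSquare (t - 2 * m)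
    · have hv : ¬ IsSquare (t + 2 * m) := fun hv => hd (hu.mul hv)
      refine ⟨(t - 2 * m, t + 2 * m), ?_, ?_⟩
      · simp only [Finset.mem_product, Finset.mem_filter, Finset.mem_univ, true_and]
        exact ⟨⟨hu0, hu⟩, hv⟩
      · refine Prod.ext ?_ ?_
        · show (t - 2 * m + (t + 2 * m)) / 2 = t
          field_simp
          ring
        · show ((t + 2 * m - (t - 2 * m)) / 4) ^ 2 = m * m
          field_simp
          ring
    · have hv : IsSquare (t + 2 * m) := by
        by_contra hv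
        exact hd (isSquare_mul_of_not h2 hu hv)
      refine ⟨(t + 2 * m, t - 2 * m), ?_, ?_⟩
      · simp only [Finset.mem_product, Finset.mem_filter, Finset.mem_univ, true_and]
        exact ⟨⟨hv0, hv⟩, hu⟩
      · refine Prod.ext ?_ ?_
        · show (t + 2 * m + (t - 2 * m)) / 2 = t
          field_simp
          ring
        · show ((t - 2 * m - (t + 2 * m)) / 4) ^ 2 = m * m
          field_simp
          ring
  · rintro ⟨s, v⟩ -
    show _ = e ((s + v) / 2) * c (((v - s) / 4) ^ 2)
    rw [map_pow]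

include h2 in
/-- the first sum -/
theorem first_eq : (∑ y : K with y ≠ 0 ∧ IsSquare y, e (2 * y) * c y ^ 2) =
    ∑ s : K with s ≠ 0 ∧ IsSquare s, e ((s + 0) / 2) * c ((0 - s) / 4) ^ 2 := by
  have h20 := two_ne h2
  have h40 : (4 : K) ≠ 0 := by
    have : (4 : K) = 2 * 2 := by norm_num
    rw [this]; exact mul_ne_zero h20 h20
  have h4 : IsSquare (4 : K) := ⟨2, by norm_num⟩
  refine Finset.sum_bij (fun y _ => 4 * y) ?_ ?_ ?_ ?_
  · intro y h
    simp only [Finset.mem_filter, Finset.mem_univ, true_and] at h ⊢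
    exact ⟨mul_ne_zero h40 h.1, h4.mul h.2⟩
  · intro y _ y' _ h
    exact mul_left_cancel₀ h40 h
  · intro s h
    simp only [Finset.mem_filter, Finset.mem_univ, true_and] at h
    refine ⟨s / 4, ?_, by field_simp⟩
    simp only [Finset.mem_filter, Finset.mem_univ, true_and]
    exact ⟨div_ne_zero h.1 h40, h.2.div h4⟩
  · intro y _
    have e1 : (4 * y + 0) / 2 = 2 * y := by field_simp; ring
    have e2 : c ((0 - 4 * y) / 4) ^ 2 = c y ^ 2 := by
      rw [← map_pow, ← map_pow]
      congr 1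
      field_simp
      ring
    rw [e1, e2]

include h2 in
/-- the second sum -/
theorem second_eq (s : K) : e s * (∑ y : K, e (2 * y) * c y ^ 2) = ∑ u : K, e ((s + u) / 2) * c ((u - s) / 4) ^ 2 := by
  have h20 := two_ne h2
  have h40 : (4 : K) ≠ 0 := by
    have : (4 : K) = 2 * 2 := by norm_num
    rw [this]; exact mul_ne_zero h20 h20
  rw [Finset.mul_sum]
  let E : K ≃ K := ⟨fun y => s + 4 * y, fun u => (u - s) / 4, fun y => by field_simp; ring, fun u => by
    field_simp; ring⟩
  refine Fintype.sum_equiv E _ _ fun y => ?_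
  show _ = e ((s + (s + 4 * y)) / 2) * c ((s + 4 * y - s) / 4) ^ 2
  have e1 : (s + (s + 4 * y)) / 2 = s + 2 * y := by field_simp; ring
  have e2 : (s + 4 * y - s) / 4 = y := by field_simp; ring
  rw [e1, e2, AddChar.map_add_eq_mul, mul_assoc]

include h2 in
/-- **The parity count.** -/
theorem parity : (∑ y : K with y ≠ 0 ∧ IsSquare y, e (2 * y) * c y ^ 2) +
    (∑ y : K with y ≠ 0 ∧ IsSquare y, e y) * (∑ y : K, e (2 * y) * c y ^ 2) +
    (∑ p : K × K with (p.2 ≠ 0 ∧ IsSquare p.2) ∧ ¬ IsSquare (p.1 ^ 2 - 4 * p.2), e p.1 * c p.2) = 0 := by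
  have h20 := two_ne h2
  rw [third_eq h2, first_eq h2, Finset.sum_mul]
  set S : Finset K := Finset.univ.filter fun s => s ≠ 0 ∧ IsSquare s with hS
  set N : Finset K := Finset.univ.filter fun s => ¬ IsSquare s with hN
  let f : K → K → k := fun s u => e ((s + u) / 2) * c ((u - s) / 4) ^ 2
  have hsplit : ∀ s, ∑ u : K, f s u = f s 0 + ∑ u ∈ S, f s u + ∑ u ∈ N, f s u := by
    intro s
    have h1 : (Finset.univ : Finset K) = ({0} ∪ S) ∪ N := by
      ext u
      simp only [hS, hN, Finset.mem_univ, Finset.mem_union, Finset.mem_singleton, Finset.mem_filter, true_and, true_iff]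
      tauto
    have hd1 : Disjoint ({0} ∪ S) N := by
      rw [Finset.disjoint_left]
      intro u hu hu'
      simp only [hS, hN, Finset.mem_union, Finset.mem_singleton, Finset.mem_filter, Finset.mem_univ, true_and] at hu hu'
      rcases hu with rfl | hu
      · exact hu' IsSquare.zero
      · exact hu' hu.2
    have hd2 : Disjoint ({0} : Finset K) S := by
      rw [Finset.disjoint_left]
      intro u hu hu'
      simp only [hS, Finset.mem_singleton, Finset.mem_filter, Finset.mem_univ, true_and] at hu hu'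
      exact hu'.1 hu
    rw [h1, Finset.sum_union hd1, Finset.sum_union hd2, Finset.sum_singleton]
  have hsym : ∑ s ∈ S, ∑ u ∈ S, f s u = 0 := by
    rw [← Finset.sum_product']
    refine Finset.sum_involution (fun p _ => (p.2, p.1)) ?_ ?_ ?_ ?_
    · rintro ⟨s, u⟩ -
      show e ((s + u) / 2) * c ((u - s) / 4) ^ 2 + e ((u + s) / 2) * c ((s - u) / 4) ^ 2 = 0
      have e1 : c ((s - u) / 4) ^ 2 = c ((u - s) / 4) ^ 2 := by
        rw [← map_pow, ← map_pow]
        congr 1
        ring
      rw [e1, add_comm u s]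
      exact CharTwo.add_self_eq_zero _
    · rintro ⟨s, u⟩ _ hne heq
      apply hne
      have h3 : u = s := congrArg Prod.fst heq
      show e ((s + u) / 2) * c ((u - s) / 4) ^ 2 = 0
      rw [h3, sub_self, zero_div, MulChar.map_zero, zero_pow two_ne_zero, mul_zero]
    · rintro ⟨s, u⟩ h
      simp only [Finset.mem_product] at h ⊢
      exact ⟨h.2, h.1⟩
    · rintro ⟨s, u⟩ _
      rfl
  have h3 : ∑ s ∈ S, e s * (∑ y : K, e (2 * y) * c y ^ 2) =
      ∑ s ∈ S, f s 0 + ∑ s ∈ S, ∑ u ∈ N, f s u := by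
    rw [← Finset.sum_add_distrib]
    have h4 : ∑ s ∈ S, e s * (∑ y : K, e (2 * y) * c y ^ 2) =
        ∑ s ∈ S, (f s 0 + ∑ u ∈ N, f s u) + ∑ s ∈ S, ∑ u ∈ S, f s u := by
      rw [← Finset.sum_add_distrib]
      refine Finset.sum_congr rfl fun s _ => ?_
      rw [second_eq h2]
      show ∑ u, f s u = _
      rw [hsplit]
      ring
    rw [h4, hsym, add_zero]
  rw [h3]
  show ∑ s ∈ S, f s 0 + (∑ s ∈ S, f s 0 + ∑ s ∈ S, ∑ u ∈ N, f s u) + ∑ s ∈ S, ∑ u ∈ N, f s u = 0
  have e1 := CharTwo.add_self_eq_zero (∑ s ∈ S, f s 0)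
  have e2 := CharTwo.add_self_eq_zero (∑ s ∈ S, ∑ u ∈ N, f s u)
  linear_combination e1 + e2

end

end Cfsg.Agent.H99.KGV
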